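import Groth.Agent.EdP1Lib.Std
import Groth.Agent.IsotrivLib.Glue
import Groth.Agent.WeilResLib.GeomConn
import Groth.Agent.SecDivLib.Family
import Groth.Agent.LinearizedSSLib.Main
import Groth.Agent.RelDualLib.Bundle
import Groth.Prelude.Def_ModFun

/-!
# Fibres of families of curves of genus zero
-/

set_option autoImplicit false
set_option linter.style.haveILetI false
set_option linter.unusedSectionVars false
universe u

open CategoryTheory CategoryTheory.Limits AlgebraicGeometry TopologicalSpace
open KFlatLib (pb)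

noncomputable section

namespace ZeroFamLib

attribute [local instance] VeryAmpleLib.bcOver

variable {X S : Scheme.{u}} (f : X ⟶ S)

/-- Integral fibres over algebraically closed fields make a morphism geometrically irreducible. -/
theorem geometricallyIrreducible_of_algClosed
    (h : ∀ (K : Type u) [Field K] [IsAlgClosed K] (x : Spec (CommRingCat.of K) ⟶ S), IrreducibleSpace ↥(pullback f x)) :
    GeometricallyIrreducible f := by
  refine ⟨fun L _ y Z fst snd hpb => ?_⟩
  let ρ := Spec.map (CommRingCat.ofHom (algebraMap L (AlgebraicClosure L)))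
  haveI : Surjective ρ := ⟨fun q => by
    obtain ⟨p⟩ : Nonempty (Spec (CommRingCat.of (AlgebraicClosure L))) := inferInstance
    exact ⟨p, Subsingleton.elim (α := PrimeSpectrum L) _ _⟩⟩
  haveI : Surjective (pullback.fst snd ρ) := MorphismProperty.pullback_fst snd ρ inferInstance
  let E := ((IsPullback.of_hasPullback snd ρ).paste_horiz hpb).isoPullback
  haveI := h (AlgebraicClosure L) (ρ ≫ y)
  haveI : IrreducibleSpace ↥(pullback snd ρ) := (Scheme.Hom.homeomorph E.inv).irreducibleSpace_iff.mp inferInstance
  exact (pullback.fst snd ρ).surjective.irreducibleSpace (pullback.fst snd ρ).continuous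

/-- The condition on geometric fibres gives a curve of genus zero. -/
theorem isCurveOfGenus_of_fibres [Smooth f] [IsProper f]
    (hfib : ∀ (K : Type u) [Field K] [IsAlgClosed K] (x : Spec (CommRingCat.of K) ⟶ S), IsIntegral (pullback f x) ∧
      topologicalKrullDim ↥(pullback f x) = 1 ∧ @Curv2.genus K _ (pullback f x) ⟨pullback.snd f x⟩ = 0) :
    ModFun.IsCurveOfGenus 0 f := by
  refine ⟨inferInstance, inferInstance, geometricallyIrreducible_of_algClosed f (fun K _ _ x => by
    haveI := (hfib K x).1; infer_instance), fun K _ _ x P i q hpb => ?_⟩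
  obtain ⟨-, hd, hg⟩ := hfib K x
  let e := hpb.isoPullback
  refine ⟨(IsHomeomorph.topologicalKrullDim_eq _ (Scheme.Hom.homeomorph e.hom).isHomeomorph).trans hd, ?_⟩
  refine Eq.trans ?_ hg
  letI : P.Over (Spec (CommRingCat.of K)) := ⟨q⟩
  letI : (pullback f x).Over (Spec (CommRingCat.of K)) := ⟨pullback.snd f x⟩
  haveI : IsProper ((pullback f x) ↘ Spec (CommRingCat.of K)) := MorphismProperty.pullback_snd f x inferInstance
  haveI : Coh.IsQCoh (Coh.structureModule (pullback f x)) := QCohLib.isQCoh_unit
  haveI : Coh.IsQCoh ((Scheme.Modules.pullback e.hom).obj (Coh.structureModule (pullback f x))) :=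
    KFlatLib.isQCoh_pullback _ _
  exact (CurvLib.hIso (k := K) (KFlatLib.pullUnitIso e.hom) 1).finrank_eq.symm.trans
    (LinearizedSSLib.finrank_HH_of_iso (k := K) e.hom hpb.isoPullback_hom_snd (Coh.structureModule (pullback f x)) 1)

/-- The structure of a fibre as a scheme over the residue field. -/
@[instance_reducible] def fibreOver (s : S) : (f.fiber s).Over (Spec (CommRingCat.of (S.residueField s))) :=
  ⟨f.fiberToSpecResidueField s⟩

attribute [local instance] fibreOver

/-- What is needed of a fibre. -/
structure FibreData (s : S) : Prop where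
  proper : IsProper ((f.fiber s) ↘ Spec (CommRingCat.of (S.residueField s)))
  smooth : Smooth ((f.fiber s) ↘ Spec (CommRingCat.of (S.residueField s)))
  conn : GeometricallyConnected ((f.fiber s) ↘ Spec (CommRingCat.of (S.residueField s)))
  int : IsIntegral (f.fiber s)
  dim : topologicalKrullDim ↥(f.fiber s) = 1
  h1 : Subsingleton (Coh.HH (f.fiber s) (Coh.structureModule (f.fiber s)) 1)

variable {f} (hf : ModFun.IsCurveOfGenus 0 f)

include hf in
theorem geometricallyConnected : GeometricallyConnected f := by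
  haveI := hf.2.2.1
  exact Groth.Agent.WeilRes.geometricallyConnected_of_geometricallyIrreducible f

include hf in
theorem fibreData (s : S) : FibreData f s := by
  obtain ⟨hsm, hpr, hgi, hfib⟩ := IsotrivLib.isCurveOfGenus_of_isPullback hf
    (IsPullback.of_hasPullback f (S.fromSpecResidueField s))
  let κ : Type u := S.residueField s
  haveI : IsProper ((f.fiber s) ↘ Spec (CommRingCat.of κ)) := hpr
  haveI : Smooth ((f.fiber s) ↘ Spec (CommRingCat.of κ)) := hsm
  haveI : GeometricallyIrreducible ((f.fiber s) ↘ Spec (CommRingCat.of κ)) := hgi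
  haveI hc := Groth.Agent.WeilRes.geometricallyConnected_of_geometricallyIrreducible ((f.fiber s) ↘ Spec (CommRingCat.of κ))
  haveI := FibVALib.geometricallyIntegral_of_geometricallyConnected ((f.fiber s) ↘ Spec (CommRingCat.of κ))
  haveI hint : IsIntegral (f.fiber s) :=
    GeometricallyIntegral.isIntegral_of_subsingleton ((f.fiber s) ↘ Spec (CommRingCat.of κ))
  let Ω := AlgebraicClosure κ
  obtain ⟨hd, hg⟩ := hfib Ω (Spec.map (CommRingCat.ofHom (algebraMap κ Ω))) (Curv2.bc κ (f.fiber s) Ω) _ _
    (VeryAmpleLib.isPullback_bc κ (f.fiber s) Ω)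
  haveI := VeryAmpleLib.isIntegral_bc κ (f.fiber s) Ω
  have hdim : topologicalKrullDim ↥(f.fiber s) = 1 := (VeryAmpleLib.dim_bc κ (f.fiber s) Ω).symm.trans hd
  have hg0 : Curv2.genus κ (f.fiber s) = 0 := (VeryAmpleLib.genus_bc κ (f.fiber s) Ω).symm.trans hg
  refine ⟨hpr, hsm, hc, hint, hdim, ?_⟩
  haveI : Module.Finite κ (Coh.HH (f.fiber s) (Coh.structureModule (f.fiber s)) 1) :=
    CurvLib.finite_HH (CurvLib.isCoh_of_isInvertible CurvLib.isInvertible_structureModule) 1
  rw [Curv2.genus] at hg0
  exact (Module.finrank_zero_iff (R := κ)).mp hg0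

section Point

variable {k : Type u} [Field k] {C : Scheme.{u}} [C.Over (Spec (CommRingCat.of k))]
  [IsProper (C ↘ Spec (CommRingCat.of k))] [Smooth (C ↘ Spec (CommRingCat.of k))]
  [GeometricallyConnected (C ↘ Spec (CommRingCat.of k))] (hdim : topologicalKrullDim C = 1)

include hdim in
/-- A module with a section cutting out a rational point has degree one. -/
theorem deg_of_zeroScheme_point (x : Spec (CommRingCat.of k) ⟶ C) (hx : x ≫ (C ↘ Spec (CommRingCat.of k)) = 𝟙 _)
    {L : C.Modules} (hL : PicF.IsInvertible L) (s : Coh.structureModule C ⟶ L)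
    (hs : PicF2.zeroScheme L s = x.ker) : Curv2.deg k C L 1 = 1 := by
  haveI := FibVALib.geometricallyIntegral_of_geometricallyConnected (C ↘ Spec (CommRingCat.of k))
  haveI : IsIntegral C := GeometricallyIntegral.isIntegral_of_subsingleton (C ↘ Spec (CommRingCat.of k))
  have hP : IsClosed ({x (IsLocalRing.closedPoint k)} : Set C) := GenusZeroLib.isClosed_rational x hx _
  have hne : s ≠ 0 := by
    intro h0
    have hbot : PicF2.zeroScheme L s = ⊥ := by
      refine SecDivLib.ext_affine_cover fun y => ?_
      obtain ⟨U₀, e, hyU, he⟩ := TwistLib.exists_genOn hL y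
      obtain ⟨U, hU, hyU', hUU⟩ := exists_isAffineOpen_mem_and_subset (U := U₀) (x := y) hyU
      refine ⟨⟨U, hU⟩, hyU', ?_⟩
      rw [MeroLib.zeroScheme_ideal_of_genOn hL s (W := ⟨U, hU⟩) (he.res (hUU : U ≤ U₀)) (c := 0)
        (by rw [zero_smul, h0]; rfl), Scheme.IdealSheafData.ideal_bot]
      simp
    rw [hs, SecDivLib.ker_rational x hx] at hbot
    have hsupp := congrArg (fun J : C.IdealSheafData => (J.support : Set C)) hbot
    simp only [Scheme.IdealSheafData.coe_support_vanishingIdeal, Scheme.IdealSheafData.support_bot] at hsupp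
    haveI : Subsingleton C := ⟨fun a b => by
      have ha : a ∈ ({x (IsLocalRing.closedPoint k)} : Set C) := hsupp.ge trivial
      have hb : b ∈ ({x (IsLocalRing.closedPoint k)} : Set C) := hsupp.ge trivial
      exact ha.trans hb.symm⟩
    have : topologicalKrullDim C ≤ 0 := AlgSpLib.topologicalKrullDim_le_zero_of_subsingleton
    rw [hdim] at this
    exact absurd this (by decide)
  haveI : Mono s := CurvLib.mono_of_ne_zero CurvLib.isInvertible_structureModule hL hne
  haveI : IsDiscreteValuationRing (C.presheaf.stalk (x (IsLocalRing.closedPoint k))) :=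
    HurwitzLib.dvr_stalk_closed (k := k) hdim hP
  obtain ⟨I, ⟨eI⟩, hI, hId⟩ := GenusZeroLib.exists_idealMod_iso (k := k) hP hdim
  rw [GenusZeroLib.finrank_residueField_rational x hx] at hId
  obtain ⟨e⟩ := AmpleFinGenLib.idealMod_tensor_iso hL s
  rw [hs, SecDivLib.ker_rational x hx] at e
  have hd := GenusZeroLib.deg_tensor k hdim hI hL
  rw [CurvLib.deg_congr (k := k) (HilbPolyLib.congrLeft eI L ≪≫ e) 1, hId] at hd
  have : Curv2.deg k C (Coh.structureModule C) 1 = 0 := by simp [Curv2.deg]
  omega

end Point

include hf in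
/-- A module of degree one on every fibre, for a family with a section. -/
theorem exists_deg_one (σ : S ⟶ X) (hσ : σ ≫ f = 𝟙 S) :
    ∃ L : X.Modules, PicF.IsInvertible L ∧ ∀ s : S,
      Curv2.deg (S.residueField s) (f.fiber s) (pb (f.fiberι s) L) 1 = 1 := by
  haveI := hf.1
  haveI := hf.2.1
  haveI := geometricallyConnected hf
  haveI : IsClosedImmersion σ := by
    haveI : IsClosedImmersion (σ ≫ f) := by rw [hσ]; infer_instance
    exact IsClosedImmersion.of_comp σ f
  have hI := RelDualLib.isEffCartier_section f (fun s => (fibreData hf s).dim) σ hσ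
  have hJ := IntMultLib.isInvertible_idealMod _ hI
  have hL := MiscFlat6.dual_isInvertible hJ
  obtain ⟨τ, hτ⟩ := SecDivLib.exists_secHom hL hI (RelDualLib.isInverseOf_dual hJ)
  refine ⟨_, hL, fun s => ?_⟩
  obtain ⟨_, _, _, _, hd, -⟩ := fibreData hf s
  refine deg_of_zeroScheme_point (k := S.residueField s) (C := f.fiber s) hd (SecDivLib.fibrePt f σ hσ s) (SecDivLib.fibrePt_toSpec f σ hσ s)
    (AmpleDevLib.isInvertible_pb _ hL) (SecDivLib.pbSec (f.fiberι s) τ) ?_
  rw [SecDivLib.zeroScheme_pbSec (f.fiberι s) hL τ, hτ]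
  exact SecDivLib.comap_ker_of_isPullback (SecDivLib.isPullback_fibrePt f σ hσ s)

end ZeroFamLib

end
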