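import Groth.Agent.FibVALib.Core
import Groth.Agent.S10888

/-!
# An isomorphism of a fibre with projective space spreads to a neighbourhood
-/

set_option autoImplicit false
set_option maxHeartbeats 2000000
set_option linter.style.haveILetI false
universe u

open CategoryTheory CategoryTheory.Limits AlgebraicGeometry TopologicalSpace Opposite
open KFlatLib (pb puSec puSecLE)
open FibVALib (exists_baseChange isProper_toSpec puSecLE_top)

noncomputable section

namespace ZeroFamLib

variable {X S : Scheme.{u}}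

/-- A module with no first cohomology on a fibre which identifies that fibre with projective space identifies
the family with projective space nearby. -/
theorem exists_chart (f : X ⟶ S) [IsProper f] [Flat f] [LocallyOfFinitePresentation f]
    {L : X.Modules} (hL : PicF.IsInvertible L) (y : S) (n : ℕ)
    (i' : f.fiber y ⟶ CohB1.ProjSpace n (S.residueField y)) [IsIso i']
    (hi'f : i' ≫ CohB1.ProjSpace.toSpec n (S.residueField y) = f.fiberToSpecResidueField y)
    (τy : pb i' (Twist.twistProjSpace n (S.residueField y) 1) ≅ CohIII.fiberMod f L y)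
    (h1 : Subsingleton (CohIII.fiberH f L y 1)) :
    ∃ (R : Type u) (_ : CommRing R) (i : Spec (CommRingCat.of R) ⟶ S), IsOpenImmersion i ∧ y ∈ Set.range i.base ∧
      ∃ e : pullback f i ≅ CohB1.ProjSpace n R, e.hom ≫ CohB1.ProjSpace.toSpec n R = pullback.snd f i ∧
        Nonempty (pb e.hom (Twist.twistProjSpace n R 1) ≅ pb (pullback.fst f i) L) := by
  classical
  haveI : IsProper (f.fiberToSpecResidueField y) := MorphismProperty.pullback_snd f (S.fromSpecResidueField y) ‹_›
  obtain ⟨hQ, hfp, hfl⟩ := CohCmpLib.rank_one_hyps f ((CohCmpLib.invertible_iff_rank_one L).1 hL)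
  have he := CohCmpLib.epi_bc0_of_vanishing_one f hfp hfl y h1
  -- lift the coordinates
  let e : Fin (n + 1) → Γ(CohIII.fiberMod f L y, ⊤) := fun k =>
    τy.hom.app ⊤ (ProjUP.pullSec i' _ (ProjUP.coord n (S.residueField y) k))
  choose O hyO hO m hm using fun k => CohCmpLib.exists_lift_section f y he (e k)
  -- where they generate
  let G : Set X := ⋃ k, {x : X | ∃ hx : x ∈ f ⁻¹ᵁ O k, AmpleLib.GenAt L (m k) hx}
  have hG : IsOpen G := isOpen_iUnion fun k => CohCmpLib.isOpen_genAt_on hL (m k)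
  have hfib : ∀ x : X, f x = y → x ∈ G := fun x hx => by
    obtain ⟨z, rfl⟩ : x ∈ Set.range (f.fiberι y) := by rw [f.range_fiberι]; exact hx
    obtain ⟨k, hk⟩ := TwistLib.exists_genAt_coord n (S.residueField y) i' z
    have hk' : AmpleLib.GenAt (CohIII.fiberMod f L y) (e k) (show z ∈ (⊤ : (f.fiber y).Opens) from trivial) :=
      (TwistLib.genAt_app_iso τy _ (Set.mem_univ z)).mpr hk
    rw [← hm k, KFlatLib.puSecLE_apply] at hk'
    exact Set.mem_iUnion.mpr ⟨k, hO k (show z ∈ (⊤ : (f.fiber y).Opens) from trivial),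
      CohCmpLib.genAt_of_puSec (f.fiberι y) hL (m k) _
        ((AmpleLib.genAt_res (hO k) (puSec (f.fiberι y) (m k)) trivial).1 hk')⟩
  have hC : IsClosed (f '' Gᶜ) := f.isClosedMap _ hG.isClosed_compl
  let O' : S.Opens := (Finset.univ.inf O) ⊓ ⟨(f '' Gᶜ)ᶜ, hC.isOpen_compl⟩
  have hyO' : y ∈ O' := by
    refine ⟨?_, fun ⟨x, hx, hxy⟩ => hx (hfib x hxy)⟩
    exact (Finset.inf_induction (p := fun W : S.Opens => y ∈ W) trivial (fun _ ha _ hb => ⟨ha, hb⟩) fun k _ => hyO k)
  obtain ⟨_, ⟨V, hV, rfl⟩, hyV, hVO⟩ := S.isBasis_affineOpens.exists_subset_of_mem_open hyO' O'.2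
  have hV : IsAffineOpen V := hV
  have hVk : ∀ k, V ≤ O k := fun k => le_trans (fun z hz => (hVO hz).1) (Finset.inf_le (Finset.mem_univ k))
  -- sections over `f⁻¹ V`
  let XV : X.Opens := f ⁻¹ᵁ V
  let LV : XV.toScheme.Modules := pb XV.ι L
  have hLV : PicF.IsInvertible LV := AmpleDevLib.isInvertible_pb _ hL
  have htop : ∀ k, (⊤ : XV.toScheme.Opens) ≤ XV.ι ⁻¹ᵁ (f ⁻¹ᵁ O k) := fun k x _ => hVk k x.2
  let s : Fin (n + 1) → Γ(LV, ⊤) := fun k => puSecLE XV.ι L (htop k) (m k)
  have hs : ProjUP.GeneratedBy LV s := fun x => by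
    have hxG : x.1 ∈ G := by
      by_contra hne
      exact (hVO x.2).2 ⟨x.1, hne, rfl⟩
    obtain ⟨k, hx, hk⟩ := Set.mem_iUnion.mp hxG
    refine TwistLib.span_of_genAt LV s x (k := k) ?_
    exact (AmpleLib.genAt_res (htop k) (puSec XV.ι (m k)) trivial).2 (TwistLib.GenAt.puSec XV.ι (x := x) hk)
  -- the morphism
  let q : XV.toScheme ⟶ Spec Γ(S, V) := f ∣_ V ≫ hV.isoSpec.hom
  obtain ⟨r, hr, τ, hτ⟩ := Groth.Agent.S3572.result (R := Γ(S, V)) n q LV hLV s hs
  have := isProper_toSpec n Γ(S, V)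
  have : IsProper (r ≫ CohB1.ProjSpace.toSpec n Γ(S, V)) := by
    rw [hr]; infer_instance
  have : IsProper r := IsProper.of_comp r (CohB1.ProjSpace.toSpec n Γ(S, V))
  -- the fibre
  let gy : Spec (S.residueField y) ⟶ Spec Γ(S, V) := IsOpenImmersion.lift hV.fromSpec (S.fromSpecResidueField y)
    (by
      rintro _ ⟨z, rfl⟩
      rw [hV.range_fromSpec, Scheme.fromSpecResidueField_apply]
      exact hyV)
  have hgy : gy ≫ hV.fromSpec = S.fromSpecResidueField y := IsOpenImmersion.lift_fac _ _ _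
  obtain ⟨j, hj, θ, hθ⟩ := exists_baseChange n (R := Γ(S, V)) (R' := S.residueField y) (Spec.preimage gy).hom
  have hj : IsPullback j (CohB1.ProjSpace.toSpec n (S.residueField y)) (CohB1.ProjSpace.toSpec n Γ(S, V)) gy := by
    have e : Spec.map (CommRingCat.ofHom (Spec.preimage gy).hom) = gy := Spec.map_preimage gy
    exact e ▸ hj
  let ιV : f.fiber y ⟶ XV.toScheme := IsOpenImmersion.lift XV.ι (f.fiberι y) (by
    rintro _ ⟨z, rfl⟩
    rw [Scheme.Opens.range_ι]
    have h : f (f.fiberι y z) = y := by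
      have := Set.mem_range_self (f := f.fiberι y) z
      rwa [f.range_fiberι] at this
    show f (f.fiberι y z) ∈ V
    rw [h]; exact hyV)
  have hιV : ιV ≫ XV.ι = f.fiberι y := IsOpenImmersion.lift_fac _ _ _
  have hqι : q ≫ hV.fromSpec = XV.ι ≫ f := by
    simp only [q, XV, Category.assoc, IsAffineOpen.isoSpec_hom_fromSpec, morphismRestrict_ι]
  have hVsq : IsPullback XV.ι q f hV.fromSpec :=
    (isPullback_morphismRestrict f V).flip.of_iso (Iso.refl _) (Iso.refl _) hV.isoSpec (Iso.refl _)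
      (by simp [XV]) (by simp [q, XV]) (by simp) (by simp)
  have hfy : IsPullback ιV (f.fiberToSpecResidueField y) q gy := by
    refine IsPullback.of_right ?_ ?_ hVsq
    · rw [hιV, hgy]; exact IsPullback.of_hasPullback f (S.fromSpecResidueField y)
    · rw [← cancel_mono hV.fromSpec]
      refine (Category.assoc ιV q _).trans ((congrArg (ιV ≫ ·) hqι).trans ?_)
      rw [Category.assoc, hgy, ← Category.assoc, hιV]
      exact f.fiber_fac y
  have heq : ιV ≫ r = i' ≫ j := by
    refine Groth.Agent.S3573.result (R := Γ(S, V)) n (ιV ≫ r) (i' ≫ j) ?_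
      (((Scheme.Modules.pullbackComp ιV r).app _).symm ≪≫ (Scheme.Modules.pullback ιV).mapIso τ ≪≫
        (Scheme.Modules.pullbackComp ιV XV.ι).app L ≪≫ (Scheme.Modules.pullbackCongr hιV).app L ≪≫ τy.symm ≪≫
        (Scheme.Modules.pullback i').mapIso θ.symm ≪≫ (Scheme.Modules.pullbackComp i' j).app _) fun k => ?_
    · exact ((Category.assoc ιV r _).trans (congrArg (ιV ≫ ·) hr)).trans (hfy.w.trans
        (((congrArg (· ≫ gy) hi'f).symm.trans (Category.assoc i' _ gy)).trans
          ((congrArg (i' ≫ ·) hj.w.symm).trans (Category.assoc i' j _).symm)))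
    · let O1 := Twist.twistProjSpace n Γ(S, V) 1
      let c : Γ(O1, ⊤) := ProjUP.coord n Γ(S, V) k
      have s1 : ((Scheme.Modules.pullbackComp ιV r).inv.app O1).app ⊤ (ProjUP.pullSec (ιV ≫ r) O1 c) =
          puSec ιV (puSec r c) := by
        refine Eq.trans (congrArg _ (CohCmpLib.pullbackComp_puSec ιV r O1 c).symm) ?_
        exact congr(Scheme.Modules.Hom.app $((Scheme.Modules.pullbackComp ιV r).hom_inv_id_app O1) ⊤
          (puSec ιV (puSec r c)))
      have s2 : ((Scheme.Modules.pullback ιV).map τ.hom).app ⊤ (puSec ιV (puSec r c)) = puSec ιV (s k) := by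
        have h := (KFlatLib.puSec_natural ιV τ.hom (puSec r c)).trans (congrArg (puSec ιV) (hτ k))
        exact h
      have s3 : ((Scheme.Modules.pullbackComp ιV XV.ι).hom.app L).app ⊤ (puSec ιV (s k)) =
          puSecLE (ιV ≫ XV.ι) L (fun z _ => htop k (show ιV z ∈ (⊤ : XV.toScheme.Opens) from trivial)) (m k) := by
        rw [← puSecLE_top ιV LV (s k) le_top]
        exact CohCmpLib.pullbackComp_puSecLE ιV XV.ι L (m k) (htop k) le_top
      have s4 : ((Scheme.Modules.pullbackCongr hιV).hom.app L).app ⊤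
          (puSecLE (ιV ≫ XV.ι) L (fun z _ => htop k (show ιV z ∈ (⊤ : XV.toScheme.Opens) from trivial)) (m k)) = e k :=
        (CohCmpLib.pullbackCongr_puSec hιV L (m k) _ (hO k)).trans (hm k)
      have s5 : τy.inv.app ⊤ (e k) = ProjUP.pullSec i' _ (ProjUP.coord n (S.residueField y) k) :=
        congr(Scheme.Modules.Hom.app $(τy.hom_inv_id) ⊤ (ProjUP.pullSec i' _ (ProjUP.coord n (S.residueField y) k)))
      have s6 : ((Scheme.Modules.pullback i').map θ.inv).app ⊤
          (ProjUP.pullSec i' _ (ProjUP.coord n (S.residueField y) k)) = puSec i' (puSec j c) := by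
        have h0 : θ.inv.app ⊤ (ProjUP.coord n (S.residueField y) k) = puSec j c := by
          rw [← hθ k]
          exact congr(Scheme.Modules.Hom.app $(θ.hom_inv_id) ⊤ (puSec j c))
        have h := (KFlatLib.puSec_natural i' θ.inv (show Γ(Twist.twistProjSpace n (S.residueField y) 1, ⊤)
          from ProjUP.coord n (S.residueField y) k)).trans (congrArg (puSec i') h0)
        exact h
      have s7 : ((Scheme.Modules.pullbackComp i' j).hom.app O1).app ⊤ (puSec i' (puSec j c)) =
          ProjUP.pullSec (i' ≫ j) O1 c := CohCmpLib.pullbackComp_puSec i' j O1 c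
      refine Eq.trans ?_ s7
      refine congrArg (((Scheme.Modules.pullbackComp i' j).hom.app O1).app ⊤) ?_
      refine Eq.trans (congrArg (((Scheme.Modules.pullback i').map θ.inv).app ⊤) ?_) s6
      refine Eq.trans (congrArg (τy.inv.app ⊤) ?_) s5
      refine Eq.trans (congrArg (((Scheme.Modules.pullbackCongr hιV).hom.app L).app ⊤) ?_) s4
      refine Eq.trans (congrArg (((Scheme.Modules.pullbackComp ιV XV.ι).hom.app L).app ⊤) ?_) s3
      exact Eq.trans (congrArg (((Scheme.Modules.pullback ιV).map τ.hom).app ⊤) s1) s2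
  have hZ : IsPullback ιV i' r j :=
    IsPullback.of_bot (v₂₁ := CohB1.ProjSpace.toSpec n (S.residueField y)) (v₂₂ := CohB1.ProjSpace.toSpec n Γ(S, V))
      (by rw [hi'f, hr]; exact hfy) heq hj
  let T := CohB1.ProjSpace.toSpec n Γ(S, V)
  haveI : IsProper q := by rw [← hr]; infer_instance
  haveI : Flat q := inferInstanceAs (Flat (f ∣_ V ≫ hV.isoSpec.hom))
  haveI : LocallyOfFinitePresentation q :=
    inferInstanceAs (LocallyOfFinitePresentation (f ∣_ V ≫ hV.isoSpec.hom))
  haveI : Smooth T := GenusZeroLib.smooth_toSpec n Γ(S, V)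
  obtain ⟨U, hU, hiso⟩ := Groth.Agent.S10888.result q T r hr
  let v : Spec Γ(S, V) := hV.primeIdealOf ⟨y, hyV⟩
  have hv : hV.fromSpec v = y := hV.fromSpec_primeIdealOf ⟨y, hyV⟩
  have hmono : IsPullback gy (𝟙 _) hV.fromSpec (S.fromSpecResidueField y) :=
    IsPullback.of_isLimit' ⟨by rw [Category.id_comp, hgy]⟩ (PullbackCone.IsLimit.mk _ (fun c => c.snd)
      (fun c => by rw [← cancel_mono hV.fromSpec, Category.assoc, hgy, c.condition]) (fun c => Category.comp_id _)
      fun c l _ hl => (Category.comp_id l).symm.trans hl)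
  obtain ⟨φ, hφ⟩ : ∃ φ : Spec ((Spec Γ(S, V)).residueField v) ⟶ Spec (S.residueField y),
      φ ≫ gy = (Spec Γ(S, V)).fromSpecResidueField v := by
    obtain ⟨φ, hφ⟩ : ∃ φ : Spec ((Spec Γ(S, V)).residueField v) ⟶ Spec (S.residueField y),
        φ ≫ S.fromSpecResidueField y = (Spec Γ(S, V)).fromSpecResidueField v ≫ hV.fromSpec := by
      rw [← hv]
      exact ⟨_, hV.fromSpec.SpecMap_residueFieldMap_fromSpecResidueField v⟩
    refine ⟨hmono.lift ((Spec Γ(S, V)).fromSpecResidueField v) φ hφ.symm, hmono.lift_fst _ _ _⟩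
  have hvU : v ∈ U := (hU v).2 <| by
    let u : T.fiber v ⟶ CohB1.ProjSpace n (S.residueField y) :=
      hj.lift (T.fiberι v) (T.fiberToSpecResidueField v ≫ φ) (by rw [Category.assoc, hφ]; exact T.fiber_fac v)
    have hu : u ≫ j = T.fiberι v := hj.lift_fst _ _ _
    let b : q.fiber v ⟶ T.fiber v := pullback.lift (q.fiberι v ≫ r) (q.fiberToSpecResidueField v)
      (by rw [Category.assoc, hr]; exact q.fiber_fac v)
    have hb1 : b ≫ T.fiberι v = q.fiberι v ≫ r := pullback.lift_fst _ _ _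
    have hb : IsPullback (q.fiberι v) b r (T.fiberι v) :=
      IsPullback.of_bot (v₂₁ := T.fiberToSpecResidueField v) (v₂₂ := T)
        (by rw [hr, show b ≫ T.fiberToSpecResidueField v = q.fiberToSpecResidueField v from pullback.lift_snd _ _ _]; exact IsPullback.of_hasPullback q _) hb1.symm
        (IsPullback.of_hasPullback T _)
    have h3 : IsPullback (hZ.lift (q.fiberι v) (b ≫ u) (by rw [Category.assoc, hu]; exact hb1.symm)) b i' u :=
      IsPullback.of_right (h₁₂ := ιV) (by rw [hZ.lift_fst, hu]; exact hb) (hZ.lift_snd _ _ _) hZ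
    haveI : IsIso b := h3.isIso_snd_of_isIso
    exact ⟨asIso b, hb1⟩
  obtain ⟨_, ⟨_, ⟨a, rfl⟩, rfl⟩, hva, haU⟩ :=
    PrimeSpectrum.isBasis_basic_opens.exists_subset_of_mem_open (show v ∈ (U : Set _) from hvU) U.2
  let w : Spec (CommRingCat.of (Localization.Away a)) ⟶ Spec Γ(S, V) :=
    Spec.map (CommRingCat.ofHom (algebraMap Γ(S, V) (Localization.Away a)))
  haveI hw : IsOpenImmersion w := IsOpenImmersion.of_isLocalization a
  have hwr : Set.range w = ((PrimeSpectrum.basicOpen a : Opens (PrimeSpectrum Γ(S, V))) : Set (PrimeSpectrum Γ(S, V))) :=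
    PrimeSpectrum.localization_away_comap_range (Localization.Away a) a
  obtain ⟨z, hz⟩ : v ∈ Set.range w := hwr.ge hva
  refine ⟨Localization.Away a, inferInstance, w ≫ hV.fromSpec, inferInstance, ⟨z, ?_⟩, ?_⟩
  · rw [Scheme.Hom.comp_apply, hz, hv]
  obtain ⟨j', hj', θ', -⟩ := exists_baseChange n (R := Γ(S, V)) (algebraMap Γ(S, V) (Localization.Away a))
  let α : pullback f (w ≫ hV.fromSpec) ⟶ XV.toScheme := hVsq.lift (pullback.fst f (w ≫ hV.fromSpec))
    (pullback.snd f (w ≫ hV.fromSpec) ≫ w) (by rw [Category.assoc]; exact pullback.condition)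
  have hα : IsPullback α (pullback.snd f (w ≫ hV.fromSpec)) q w :=
    IsPullback.of_right (h₁₂ := XV.ι) (by rw [hVsq.lift_fst]; exact IsPullback.of_hasPullback f _)
      (hVsq.lift_snd _ _ _) hVsq
  let β : pullback f (w ≫ hV.fromSpec) ⟶ CohB1.ProjSpace n (Localization.Away a) :=
    hj'.lift (α ≫ r) (pullback.snd f (w ≫ hV.fromSpec)) (by rw [Category.assoc, hr]; exact hα.w)
  have hβ2 : β ≫ CohB1.ProjSpace.toSpec n (Localization.Away a) = pullback.snd f (w ≫ hV.fromSpec) :=
    hj'.lift_snd _ _ _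
  have hβ : IsPullback α β r j' :=
    IsPullback.of_bot (v₂₁ := CohB1.ProjSpace.toSpec n (Localization.Away a)) (v₂₂ := T)
      (by rw [hr, hβ2]; exact hα) (hj'.lift_fst _ _ _).symm hj'
  have hle : Set.range j' ⊆ Set.range (T ⁻¹ᵁ U).ι := by
    rintro _ ⟨p, rfl⟩
    rw [Scheme.Opens.range_ι]
    refine haU (hwr.le ⟨CohB1.ProjSpace.toSpec n (Localization.Away a) p, ?_⟩)
    rw [← Scheme.Hom.comp_apply, ← Scheme.Hom.comp_apply, hj'.w]
  let j'' : CohB1.ProjSpace n (Localization.Away a) ⟶ (T ⁻¹ᵁ U).toScheme :=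
    IsOpenImmersion.lift (T ⁻¹ᵁ U).ι j' hle
  have hj'' : j'' ≫ (T ⁻¹ᵁ U).ι = j' := IsOpenImmersion.lift_fac _ _ _
  have hR := (isPullback_morphismRestrict r (T ⁻¹ᵁ U)).flip
  haveI := hiso
  haveI : IsIso β := by
    have h3 : IsPullback (hR.lift α (β ≫ j'') (by rw [Category.assoc, hj'']; exact hβ.w)) β
        (r ∣_ T ⁻¹ᵁ U) j'' :=
      IsPullback.of_right (h₁₂ := (r ⁻¹ᵁ T ⁻¹ᵁ U).ι) (by rw [hR.lift_fst, hj'']; exact hβ) (hR.lift_snd _ _ _) hR
    exact h3.isIso_snd_of_isIso
  have hβj : β ≫ j' = α ≫ r := hj'.lift_fst _ _ _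
  have hαι : α ≫ XV.ι = pullback.fst f (w ≫ hV.fromSpec) := hVsq.lift_fst _ _ _
  refine ⟨asIso β, hβ2, ⟨?_⟩⟩
  exact (Scheme.Modules.pullback β).mapIso θ'.symm ≪≫ (Scheme.Modules.pullbackComp β j').app _ ≪≫
    (Scheme.Modules.pullbackCongr hβj).app _ ≪≫ ((Scheme.Modules.pullbackComp α r).app _).symm ≪≫
    (Scheme.Modules.pullback α).mapIso τ ≪≫ (Scheme.Modules.pullbackComp α XV.ι).app L ≪≫
    (Scheme.Modules.pullbackCongr hαι).app L

end ZeroFamLib

end
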