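import Groth.Agent.ZeroFamLib.Fibre
import Groth.Agent.ZeroFamLib.Chart
import Groth.Agent.GenusZeroLib.Line

/-!
# Families of genus zero with a section are locally trivial
-/

set_option autoImplicit false
set_option linter.style.haveILetI false
universe u

open CategoryTheory CategoryTheory.Limits AlgebraicGeometry TopologicalSpace
open KFlatLib (pb)

noncomputable section

namespace ZeroFamLib

attribute [local instance] fibreOver

variable {X S : Scheme.{u}}

/-- A family of curves of genus zero with a module of fibre degree one is Zariski locally the line, the module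
the twisting module. -/
theorem exists_local_chart {f : X ⟶ S} (hf : ModFun.IsCurveOfGenus 0 f) {L : X.Modules} (hL : PicF.IsInvertible L)
    (hdeg : ∀ s : S, Curv2.deg (S.residueField s) (f.fiber s) (pb (f.fiberι s) L) 1 = 1) (y : S) :
    ∃ (R : Type u) (_ : CommRing R) (i : Spec (CommRingCat.of R) ⟶ S), IsOpenImmersion i ∧ y ∈ Set.range i.base ∧
      ∃ e : pullback f i ≅ CohB1.ProjSpace 1 R, e.hom ≫ CohB1.ProjSpace.toSpec 1 R = pullback.snd f i ∧
        Nonempty (pb e.hom (Twist.twistProjSpace 1 R 1) ≅ pb (pullback.fst f i) L) := by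
  haveI := hf.1
  haveI := hf.2.1
  obtain ⟨_, _, _, _, hd, h1⟩ := fibreData hf y
  let κ : Type u := S.residueField y
  let M : (f.fiber y).Modules := pb (f.fiberι y) L
  have hM : PicF.IsInvertible M := AmpleDevLib.isInvertible_pb _ hL
  have hMd : Curv2.deg κ (f.fiber y) M 1 = 1 := hdeg y
  have hO := CurvLib.isInvertible_structureModule (X := (f.fiber y))
  have h0 := GenusZeroLib.finrank_structure_of_deg_one κ hd h1 hM hMd
  obtain ⟨r, hr, hrb, ⟨τ⟩⟩ := GenusZeroLib.exists_closedImmersion κ hd h0 h1 hM Nat.one_pos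
    (by exact_mod_cast hMd)
  let r' : (f.fiber y) ⟶ CohB1.ProjSpace 1 κ := r
  haveI : IsClosedImmersion r' := hr
  haveI : Nonempty (f.fiber y) := ⟨genericPoint (f.fiber y)⟩
  haveI := GenusZeroLib.isIso_of_isClosedImmersion κ 1 r' (by exact_mod_cast hd)
  have hM1 : Subsingleton (Coh.HH (f.fiber y) M 1) := by
    haveI := CurvLib.finite_HH (k := κ) (CurvLib.isCoh_of_isInvertible hO) 0
    haveI := CurvLib.finite_HH (k := κ) (CurvLib.isCoh_of_isInvertible hM) 0
    haveI := CurvLib.finite_HH (k := κ) (CurvLib.isCoh_of_isInvertible hM) 1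
    have hz : Module.finrank κ (Coh.HH (f.fiber y) (Coh.structureModule (f.fiber y)) 1) = 0 := Module.finrank_zero_of_subsingleton
    have e1 := CurvLib.euler_curve (k := κ) hd (Coh.structureModule (f.fiber y))
    have e2 := CurvLib.euler_curve (k := κ) hd M
    have hne : Nontrivial (Coh.HH (f.fiber y) M 0) := by
      apply Module.nontrivial_of_finrank_pos (R := κ)
      rw [Curv2.deg] at hMd
      push_cast at hMd
      omega
    obtain ⟨s, hs⟩ := CurvLib.exists_hom_ne_zero hne
    have h := CurvLib.h1_le (k := κ) hd hO hM hs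
    exact (Module.finrank_zero_iff (R := κ)).mp (by omega)
  exact exists_chart f hL y 1 r' hrb τ hM1

/-- A family of curves of genus zero with a section is Zariski locally the line. -/
theorem exists_local_triv {f : X ⟶ S} (hf : ModFun.IsCurveOfGenus 0 f) (σ : S ⟶ X) (hσ : σ ≫ f = 𝟙 S) (y : S) :
    ∃ (R : Type u) (_ : CommRing R) (i : Spec (CommRingCat.of R) ⟶ S), IsOpenImmersion i ∧ y ∈ Set.range i.base ∧
      ∃ e : pullback f i ≅ CohB1.ProjSpace 1 R, e.hom ≫ CohB1.ProjSpace.toSpec 1 R = pullback.snd f i := by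
  obtain ⟨L, hL, hdeg⟩ := exists_deg_one hf σ hσ
  obtain ⟨R, iR, i, hi, hy, e, he, -⟩ := exists_local_chart hf hL hdeg y
  exact ⟨R, iR, i, hi, hy, e, he⟩

end ZeroFamLib

end
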