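import Groth.Agent.ZeroFamLib.Triv
import Groth.Agent.ConjAvgLib.LiftNilp
import Groth.Agent.AlbLib.AlgClosed
import Groth.Agent.H0Lib.Apply

/-!
# Genus zero families over an Artinian local ring
-/

set_option autoImplicit false
set_option linter.style.haveILetI false
universe u

open CategoryTheory CategoryTheory.Limits AlgebraicGeometry TopologicalSpace MonoidalCategory CartesianMonoidalCategory

noncomputable section

namespace ZeroFamLib

attribute [local instance] VeryAmpleLib.bcOver

/-- A smooth proper integral curve of genus zero over an algebraically closed field is a family of genus zero. -/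
theorem isCurveOfGenus_of_algClosed {κ : Type u} [Field κ] [IsAlgClosed κ] {P : Scheme.{u}}
    (q : P ⟶ Spec (CommRingCat.of κ)) [Smooth q] [IsProper q] [IsIntegral P] (hdim : topologicalKrullDim P = 1)
    (hg : @Curv2.genus κ _ P ⟨q⟩ = 0) : ModFun.IsCurveOfGenus 0 q := by
  letI : P.Over (Spec (CommRingCat.of κ)) := ⟨q⟩
  haveI : Smooth (P ↘ Spec (CommRingCat.of κ)) := ‹Smooth q›
  haveI : IsProper (P ↘ Spec (CommRingCat.of κ)) := ‹IsProper q›
  haveI : IsIntegral (Over.mk q).left := ‹IsIntegral P›
  haveI : LocallyOfFiniteType (Over.mk q).hom := inferInstanceAs (LocallyOfFiniteType q)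
  haveI hgi : GeometricallyIntegral q := AlbLib.geometricallyIntegral_of_isIntegral (Over.mk q)
  haveI : GeometricallyIntegral (P ↘ Spec (CommRingCat.of κ)) := hgi
  haveI : GeometricallyConnected (P ↘ Spec (CommRingCat.of κ)) := H0Lib.geometricallyConnected_of_integral _
  refine isCurveOfGenus_of_fibres q fun K _ _ x => ?_
  obtain ⟨ρ, rfl⟩ := Spec.map_surjective x
  letI : Algebra κ K := ρ.hom.toAlgebra
  refine ⟨?_, ?_, ?_⟩
  · exact VeryAmpleLib.isIntegral_bc κ P K
  · exact (VeryAmpleLib.dim_bc κ P K).trans hdim
  · exact (VeryAmpleLib.genus_bc κ P K).trans hg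

end ZeroFamLib

end
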